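import Mathlib

/-!
A finite group of three by three matrices in characteristic `p ≥ 11` whose Sylow `p`-subgroup is
generated by a regular unipotent element preserves a non-degenerate quadratic form up to scalars:
a transfer from the Sylow subgroup applied to a rank one projection on the space of forms.
-/

set_option autoImplicit false

namespace CfsgLib.SL3Regular94

open Matrix Polynomial

section Ring

theorem geom_sum_eq_zero {A : Type*} [Ring A] {p : ℕ} [hp : Fact p.Prime] (hc : (p : A) = 0) (a : A)
    {n : ℕ} (hn : n ≤ p - 1) (ha : (a - 1) ^ n = 0) : ∑ i ∈ Finset.range p, a ^ i = 0 := by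
  haveI : Nontrivial (ZMod p) := inferInstance
  have hpoly : ∑ i ∈ Finset.range p, (X : (ZMod p)[X]) ^ i = (X - 1) ^ (p - 1) := by
    apply mul_left_cancel₀ (X_sub_C_ne_zero (1 : ZMod p))
    rw [map_one]
    calc (X - 1) * ∑ i ∈ Finset.range p, (X : (ZMod p)[X]) ^ i
        = X ^ p - 1 := mul_geom_sum X p
      _ = (X - 1) ^ p := by rw [sub_pow_char, one_pow]
      _ = (X - 1) * (X - 1) ^ (p - 1) := by
          rw [← pow_succ', Nat.sub_add_cancel hp.out.one_le]
  rcases subsingleton_or_nontrivial A with hA | hA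
  · exact Subsingleton.elim _ _
  haveI : CharP A p := by
    obtain ⟨k, hk⟩ := CharP.exists A
    have := (CharP.cast_eq_zero_iff A k p).1 hc
    rcases (Nat.dvd_prime hp.out).1 this with h | h
    · subst h; exact absurd (inferInstance : CharP A 1) (fun h1 => CharP.char_ne_one A 1 rfl)
    · exact h ▸ hk
  letI : Algebra (ZMod p) A := ZMod.algebra A p
  have h := congrArg (aeval a) hpoly
  simp only [map_sum, map_pow, map_sub, aeval_X, map_one] at h
  rw [h]
  exact pow_eq_zero_of_le hn ha

theorem mul_sub_one_pow {A : Type*} [Ring A] {u v : A} (h : Commute u v) {m n : ℕ} (hm : 1 ≤ m)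
    (hu : (u - 1) ^ m = 0) (hv : (v - 1) ^ n = 0) : (u * v - 1) ^ (m + n - 1) = 0 := by
  have h1 : Commute (u - 1) v := h.sub_left (Commute.one_left v)
  have h2 : Commute ((u - 1) * v) (v - 1) :=
    ((h1.sub_right (Commute.one_right _))).mul_left ((Commute.refl v).sub_right (Commute.one_right v))
  have he : u * v - 1 = (u - 1) * v + (v - 1) := by
    rw [sub_mul, one_mul, sub_add_sub_cancel]
  rw [he]
  refine Commute.add_pow_eq_zero_of_add_le_succ_of_pow_eq_zero h2 (m := m) (n := n) ?_ hv (by omega)
  rw [h1.mul_pow, hu, zero_mul]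

end Ring

section Orbit

variable {α M : Type*} [AddCommMonoid M] [Fintype α]

/-- If every orbit sum of a fixed-point-free permutation of prime order vanishes, so does the sum. -/
theorem sum_eq_sum_fixed {p : ℕ} [hp : Fact p.Prime] [DecidableEq α] (σ : Equiv.Perm α)
    (hσ : σ ^ p = 1) (f : α → M)
    (hf : ∀ q, σ q ≠ q → ∑ i ∈ Finset.range p, f ((σ ^ i) q) = 0) :
    ∑ q, f q = ∑ q ∈ Finset.univ.filter (fun q => σ q = q), f q := by
  classical
  rw [← Finset.sum_filter_add_sum_filter_not Finset.univ (fun q => σ q = q)]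
  suffices h : ∑ q ∈ Finset.univ.filter (fun q => ¬ σ q = q), f q = 0 by rw [h, add_zero]
  let key : α → Finset α := fun q => (Finset.range p).image fun i => (σ ^ i) q
  rw [← Finset.sum_fiberwise_of_maps_to (g := key) (fun q hq => Finset.mem_image_of_mem key hq)]
  refine Finset.sum_eq_zero fun s hs => ?_
  obtain ⟨q, hq, rfl⟩ := Finset.mem_image.1 hs
  have hq' : σ q ≠ q := (Finset.mem_filter.1 hq).2
  have hmod : ∀ i, σ ^ i = σ ^ (i % p) := fun i => pow_eq_pow_mod i hσ
  have hord : orderOf σ = p := by
    rcases (Nat.dvd_prime hp.out).1 (orderOf_dvd_of_pow_eq_one hσ) with h | h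
    · exact absurd (by rw [orderOf_eq_one_iff.1 h]; rfl) hq'
    · exact h
  have hmem : ∀ j, (σ ^ j) q ∈ key q := fun j =>
    Finset.mem_image.2 ⟨j % p, Finset.mem_range.2 (Nat.mod_lt _ hp.out.pos), by rw [← hmod]⟩
  have hkey : ∀ j, key ((σ ^ j) q) = key q := fun j => by
    ext x
    constructor
    · intro hx
      obtain ⟨i, -, rfl⟩ := Finset.mem_image.1 hx
      rw [← Equiv.Perm.mul_apply, ← pow_add]; exact hmem _
    · intro hx
      obtain ⟨i, -, rfl⟩ := Finset.mem_image.1 hx
      refine Finset.mem_image.2 ⟨(i + (p - 1) * j) % p, Finset.mem_range.2 (Nat.mod_lt _ hp.out.pos), ?_⟩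
      rw [← hmod, ← Equiv.Perm.mul_apply, ← pow_add]
      have : i + (p - 1) * j + j = i + p * j := by
        rw [add_assoc, ← Nat.succ_mul, Nat.succ_eq_add_one, Nat.sub_add_cancel hp.out.one_le]
      rw [this, pow_add, pow_mul, hσ, one_pow, mul_one]
  have hne : ∀ i j, i < j → j < p → (σ ^ i) q ≠ (σ ^ j) q := by
    intro i j hlt hj hij
    rw [show j = i + (j - i) by omega, pow_add, Equiv.Perm.mul_apply] at hij
    have hfix : (σ ^ (j - i)) q = q := ((σ ^ i).injective hij).symm
    have hcop : (j - i).Coprime (orderOf σ) := by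
      rw [hord]
      exact ((Nat.Prime.coprime_iff_not_dvd hp.out).2
        (Nat.not_dvd_of_pos_of_lt (by omega) (by omega))).symm
    obtain ⟨e, he⟩ := exists_pow_eq_self_of_coprime hcop
    apply hq'
    calc σ q = ((σ ^ (j - i)) ^ e) q := by rw [he]
      _ = q := Equiv.Perm.pow_apply_eq_self_of_apply_eq_self hfix e
  have hinj : Set.InjOn (fun i => (σ ^ i) q) (Finset.range p) := by
    intro i hi j hj hij
    simp only [Finset.coe_range, Set.mem_Iio] at hi hj
    rcases lt_trichotomy i j with h | h | h
    · exact absurd hij (hne i j h hj)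
    · exact h
    · exact absurd hij.symm (hne j i h hi)
  have hfib : (Finset.univ.filter (fun q => ¬ σ q = q)).filter (fun x => key x = key q) = key q := by
    ext x
    simp only [Finset.mem_filter, Finset.mem_univ, true_and]
    constructor
    · rintro ⟨-, hx⟩
      rw [← hx]
      exact Finset.mem_image.2 ⟨0, Finset.mem_range.2 hp.out.pos, by simp⟩
    · intro hx
      obtain ⟨i, -, rfl⟩ := Finset.mem_image.1 hx
      refine ⟨fun h => hq' ?_, hkey i⟩
      rw [← Equiv.Perm.mul_apply, ← pow_succ', pow_succ, Equiv.Perm.mul_apply] at h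
      exact (σ ^ i).injective h
  rw [hfib, Finset.sum_image hinj]
  exact hf q hq'

end Orbit

end CfsgLib.SL3Regular94
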