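import Cfsg.Agent.SL3Regular94.Basic

/-!
The transfer argument: a regular unipotent generator of a Sylow subgroup forces a semi-invariant
non-degenerate symmetric form.
-/

set_option autoImplicit false

namespace CfsgLib.SL3Regular94

open Matrix

variable {K : Type*} [Field K]

local notation "M3" => Matrix (Fin 3) (Fin 3) K

/-- the regular unipotent Jordan block -/
def jb : M3 := !![1, 1, 0; 0, 1, 1; 0, 0, 1]

/-- the invariant form of the Jordan block -/
def cf : M3 := !![0, 0, 1; 0, -1, (2 : K)⁻¹; 1, (2 : K)⁻¹, 0]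

/-- the square of the first coordinate of the flag -/
def ef : M3 := !![0, 0, 0; 0, 0, 0; 0, 0, 1]

/-- the inverse of `cf` -/
def df : M3 := !![-((2 : K)⁻¹ * (2 : K)⁻¹), (2 : K)⁻¹, 1; (2 : K)⁻¹, -1, 0; 1, 0, 0]

/-- congruence action on forms -/
def congrAct : GL (Fin 3) K →* Module.End K M3 where
  toFun h := LinearMap.mulLeft K ((↑h⁻¹ : M3)ᵀ) * LinearMap.mulRight K (↑h⁻¹ : M3)
  map_one' := by ext X : 1; simp
  map_mul' g h := by
    refine LinearMap.ext fun X => ?_
    simp [mul_assoc, Matrix.transpose_mul]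

theorem congrAct_apply (h : GL (Fin 3) K) (X : M3) :
    congrAct h X = (↑h⁻¹ : M3)ᵀ * X * (↑h⁻¹ : M3) := by
  simp [congrAct, mul_assoc]

theorem congrAct_det (h : GL (Fin 3) K) (X : M3) :
    (congrAct h X).det = (↑h⁻¹ : M3).det ^ 2 * X.det := by
  rw [congrAct_apply, det_mul, det_mul, det_transpose]; ring

theorem congrAct_symm (h : GL (Fin 3) K) {X : M3} (hX : Xᵀ = X) :
    (congrAct h X)ᵀ = congrAct h X := by
  rw [congrAct_apply, transpose_mul, transpose_mul, transpose_transpose, hX, mul_assoc]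

theorem congrAct_inv_apply (h : GL (Fin 3) K) (X : M3) : congrAct h⁻¹ (congrAct h X) = X := by
  rw [← Module.End.mul_apply, ← map_mul, inv_mul_cancel, map_one, Module.End.one_apply]

theorem jb_sub_one_pow : ((jb : M3) - 1) ^ 3 = 0 := by
  ext i j
  fin_cases i <;> fin_cases j <;> simp [jb, pow_succ, Matrix.mul_apply, Fin.sum_univ_three, Matrix.one_apply]

theorem cf_det (h2 : (2 : K) ≠ 0) : (cf : M3).det = 1 := by
  rw [det_fin_three]; simp [cf]

theorem eq_of_inv_jb (h2 : (2 : K) ≠ 0) {C : M3} (hs : Cᵀ = C) (hJ : (jb : M3)ᵀ * C * jb = C) :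
    ∃ s t : K, C = s • cf + t • ef := by
  have e : ∀ i j, ((jb : M3)ᵀ * C * (jb : M3) : M3) i j = C i j := fun i j => by rw [hJ]
  have s01 : C 1 0 = C 0 1 := congrFun (congrFun hs 0) 1
  have s02 : C 2 0 = C 0 2 := congrFun (congrFun hs 0) 2
  have s12 : C 2 1 = C 1 2 := congrFun (congrFun hs 1) 2
  have e01 := e 0 1
  have e02 := e 0 2
  have e12 := e 1 2
  have e22 := e 2 2
  simp [jb, Matrix.mul_apply, Fin.sum_univ_three] at e01 e02 e12 e22
  have h00 : C 0 0 = 0 := e01
  have h01 : C 0 1 = 0 := e02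
  have h11 : C 1 1 = -C 0 2 := by linear_combination e12 - h01
  have h12 : C 1 2 = (2 : K)⁻¹ * C 0 2 := by
    field_simp
    linear_combination e22 - h11 - s12
  refine ⟨C 0 2, C 2 2, ?_⟩
  ext i j
  fin_cases i <;> fin_cases j <;> simp [cf, ef, h00, h01, h11, h12, s01, s02, s12, mul_comm]

theorem det_lin (h2 : (2 : K) ≠ 0) (s t : K) : (s • (cf : M3) + t • ef).det = s ^ 3 := by
  rw [det_fin_three]; simp [cf, ef]; ring

theorem trace_df_cf (h2 : (2 : K) ≠ 0) : (df * cf : M3).trace = 3 := by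
  simp [df, cf, Matrix.trace, Fin.sum_univ_three, Matrix.mul_apply]
  norm_num [h2]

theorem trace_df_ef : (df * ef : M3).trace = 0 := by
  simp [df, ef, Matrix.trace, Fin.sum_univ_three, Matrix.mul_apply]

theorem jb_df (h2 : (2 : K) ≠ 0) : (jb : M3) * df * (jb : M3)ᵀ = df := by
  ext i j
  fin_cases i <;> fin_cases j <;>
    simp [jb, df, Matrix.mul_apply, Fin.sum_univ_three] <;> field_simp <;> ring

theorem jb_cf (h2 : (2 : K) ≠ 0) : (jb : M3)ᵀ * cf * jb = cf := by
  ext i j
  fin_cases i <;> fin_cases j <;>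
    simp [jb, cf, Matrix.mul_apply, Fin.sum_univ_three] <;> field_simp <;> ring

theorem jb_ef : (jb : M3)ᵀ * ef * jb = ef := by
  ext i j
  fin_cases i <;> fin_cases j <;> simp [jb, ef, Matrix.mul_apply, Fin.sum_univ_three]

/-- the rank one operator `X ↦ tr (df X) • cf` -/
noncomputable def wOp : Module.End K M3 :=
  ((Matrix.traceLinearMap (Fin 3) K K).comp (LinearMap.mulLeft K (df : M3))).smulRight (cf : M3)

theorem wOp_apply (X : M3) : wOp X = (df * X).trace • (cf : M3) := by
  simp [wOp]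

theorem exists_form_of_jordan {p : ℕ} [hp : Fact p.Prime] [CharP K p] (hp11 : 11 ≤ p)
    (H : Subgroup (GL (Fin 3) K)) [Finite H] {g : GL (Fin 3) K} (hgH : g ∈ H)
    (hg : (↑g⁻¹ : M3) = jb) (hord : orderOf g = p) (hsyl : ¬ p ^ 2 ∣ Nat.card H) :
    ∃ C : M3, Cᵀ = C ∧ C.det ≠ 0 ∧ ∀ h ∈ H, ∃ c : K, (h : M3)ᵀ * C * (h : M3) = c • C := by
  classical
  have hsmall : ∀ n : ℕ, 0 < n → n < p → (n : K) ≠ 0 := fun n h0 hn h =>
    Nat.not_dvd_of_pos_of_lt h0 hn ((CharP.cast_eq_zero_iff K p n).1 h)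
  have h2 : (2 : K) ≠ 0 := by exact_mod_cast hsmall 2 (by norm_num) (by omega)
  have h3 : (3 : K) ≠ 0 := by exact_mod_cast hsmall 3 (by norm_num) (by omega)
  let L : ↥H →* Module.End K M3 := congrAct.comp H.subtype
  let γ : ↥H := ⟨g, hgH⟩
  have hγ : orderOf γ = p := by
    rw [← Subgroup.orderOf_coe]; exact hord
  let P : Subgroup ↥H := Subgroup.zpowers γ
  have hPc : Nat.card P = p := by rw [Nat.card_zpowers, hγ]
  have hidx : ¬ p ∣ P.index := fun hd => hsyl (by
    rw [← P.card_mul_index, hPc, pow_two]; exact Nat.mul_dvd_mul_left p hd)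
  -- the operator commutes with the Sylow subgroup
  have hLγ : ∀ X, L γ X = (jb : M3)ᵀ * X * jb := fun X => by
    show congrAct g X = _
    rw [congrAct_apply, hg]
  have hcomm : Commute (L γ) (wOp : Module.End K M3) := by
    refine LinearMap.ext fun X => ?_
    rw [Module.End.mul_apply, Module.End.mul_apply, wOp_apply, wOp_apply, map_smul, hLγ cf,
      jb_cf h2, hLγ X]
    congr 1
    conv_lhs => rw [← jb_df h2]
    rw [mul_assoc (jb * df), mul_assoc jb, Matrix.trace_mul_comm, mul_assoc df, mul_assoc (jb : M3)ᵀ]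
  have hcommP : ∀ x : ↥H, x ∈ P → Commute (L x) (wOp : Module.End K M3) := by
    intro x hx
    obtain ⟨n, rfl⟩ := mem_powers_iff_mem_zpowers.2 hx
    simp only [map_pow]
    exact hcomm.pow_left n
  have hfix : ∀ x : ↥H, x ∈ P → ∀ C : M3, Cᵀ = C → L γ C = C → L x C = C := by
    intro x hx C _ hC
    obtain ⟨n, rfl⟩ := mem_powers_iff_mem_zpowers.2 hx
    simp only [map_pow]
    induction n with
    | zero => simp
    | succ n ih => rw [pow_succ, Module.End.mul_apply, hC, ih (pow_mem (Subgroup.mem_zpowers _) _)]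
  let Q := ↥H ⧸ P
  letI : Fintype Q := Fintype.ofFinite Q
  let f : Q → Module.End K M3 := fun q => L q.out * wOp * L q.out⁻¹
  have hLinv : ∀ x : ↥H, L x * L x⁻¹ = 1 := fun x => by rw [← map_mul, mul_inv_cancel, map_one]
  have hLinv' : ∀ x : ↥H, L x⁻¹ * L x = 1 := fun x => by rw [← map_mul, inv_mul_cancel, map_one]
  have hfmk : ∀ x : ↥H, f (QuotientGroup.mk x) = L x * wOp * L x⁻¹ := by
    intro x
    obtain ⟨z, hz⟩ := QuotientGroup.mk_out_eq_mul P x
    show L (QuotientGroup.mk x : Q).out * wOp * L (QuotientGroup.mk x : Q).out⁻¹ = _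
    rw [hz, _root_.mul_inv_rev, map_mul, map_mul, mul_assoc (L x), (hcommP z z.2).eq]
    simp only [mul_assoc]
    rw [← mul_assoc (L (z : ↥H)), hLinv, one_mul]
  have hfsmul : ∀ (h : ↥H) (q : Q), f (h • q) = L h * f q * L h⁻¹ := by
    intro h q
    induction q using QuotientGroup.induction_on with
    | _ x =>
      rw [MulAction.Quotient.smul_mk, hfmk, hfmk]
      simp only [smul_eq_mul, _root_.mul_inv_rev, map_mul, mul_assoc]
  let T : Module.End K M3 := ∑ q, f q
  have hT : ∀ h : ↥H, L h * T = T * L h := by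
    intro h
    have h1 : L h * T * L h⁻¹ = T := by
      rw [Finset.mul_sum, Finset.sum_mul]
      simp only [← hfsmul]
      exact Equiv.sum_comp (MulAction.toPerm h) f
    calc L h * T = L h * T * (L h⁻¹ * L h) := by rw [hLinv', mul_one]
      _ = T * L h := by rw [← mul_assoc, h1]
  -- orbit sums vanish
  let σ : Equiv.Perm Q := MulAction.toPerm γ
  have hσi : ∀ (i : ℕ) (q : Q), (σ ^ i) q = γ ^ i • q := fun i q => by
    show ((MulAction.toPermHom ↥H Q γ) ^ i) q = _
    rw [← map_pow]; rfl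
  have hσ : σ ^ p = 1 := Equiv.ext fun q => by
    rw [hσi, ← hγ, pow_orderOf_eq_one, one_smul]; rfl
  have hnorm : ∀ q : Q, ∑ i ∈ Finset.range p, f ((σ ^ i) q) = 0 := by
    intro q
    let A : Module.End K (Module.End K M3) :=
      LinearMap.mulLeft K (L γ) * LinearMap.mulRight K (L γ⁻¹)
    have hAi : ∀ i, (A ^ i) (f q) = f ((σ ^ i) q) := by
      intro i
      induction i with
      | zero => simp
      | succ i ih =>
        rw [pow_succ', Module.End.mul_apply, ih, hσi, hσi, pow_succ', mul_smul]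
        rw [hfsmul γ]
        simp [A, mul_assoc]
    have hc : ((p : ℕ) : Module.End K (Module.End K M3)) = 0 := by
      rw [← map_natCast (algebraMap K (Module.End K (Module.End K M3))), CharP.cast_eq_zero, map_zero]
    have hnil5 : ∀ (x : GL (Fin 3) K), ((↑x⁻¹ : M3) - 1) ^ 3 = 0 →
        (congrAct x - 1 : Module.End K M3) ^ 5 = 0 := by
      intro x hx
      refine mul_sub_one_pow (A := Module.End K M3) (m := 3) (n := 3)
        (LinearMap.commute_mulLeft_right _ _) (by norm_num) ?_ ?_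
      · have e1 : LinearMap.mulLeft K (↑x⁻¹ : M3)ᵀ - 1 =
            LinearMap.mulLeft K ((↑x⁻¹ : M3) - 1)ᵀ := by
          ext X : 1; simp [sub_mul]
        rw [e1, LinearMap.pow_mulLeft, ← Matrix.transpose_pow, hx, transpose_zero]
        ext X : 1; simp
      · have e1 : LinearMap.mulRight K (↑x⁻¹ : M3) - 1 =
            LinearMap.mulRight K ((↑x⁻¹ : M3) - 1) := by
          ext X : 1; simp [mul_sub]
        rw [e1, LinearMap.pow_mulRight, hx]
        ext X : 1; simp
    have hgu : ((↑g : M3) - 1) ^ 3 = 0 := by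
      have e1 : (↑g : M3) - 1 = -((↑g : M3) * ((↑g⁻¹ : M3) - 1)) := by
        rw [mul_sub, Units.mul_inv, mul_one, neg_sub]
      have hc1 : Commute (↑g : M3) ((↑g⁻¹ : M3) - 1) :=
        (Commute.sub_right (by rw [Commute, SemiconjBy, Units.mul_inv, Units.inv_mul]) (Commute.one_right _))
      rw [e1, neg_pow, hc1.mul_pow, hg, jb_sub_one_pow, mul_zero, mul_zero]
    have h5 : (L γ - 1 : Module.End K M3) ^ 5 = 0 := hnil5 g (by rw [hg]; exact jb_sub_one_pow)
    have h5' : (L γ⁻¹ - 1 : Module.End K M3) ^ 5 = 0 := hnil5 g⁻¹ (by rw [inv_inv]; exact hgu)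
    have hA : (A - 1) ^ 9 = 0 := by
      refine mul_sub_one_pow (A := Module.End K (Module.End K M3)) (m := 5) (n := 5) (LinearMap.commute_mulLeft_right _ _) (by norm_num) ?_ ?_
      · have e1 : LinearMap.mulLeft K (L γ) - 1 = LinearMap.mulLeft K (L γ - 1) := by
          ext X : 1; simp [sub_mul]
        rw [e1, LinearMap.pow_mulLeft, h5]
        ext X : 1; simp
      · have e1 : LinearMap.mulRight K (L γ⁻¹) - 1 = LinearMap.mulRight K (L γ⁻¹ - 1) := by
          ext X : 1; simp [mul_sub]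
        rw [e1, LinearMap.pow_mulRight, h5']
        ext X : 1; simp
    have h0 := geom_sum_eq_zero hc A (n := 9) (by omega) hA
    calc ∑ i ∈ Finset.range p, f ((σ ^ i) q) = (∑ i ∈ Finset.range p, A ^ i) (f q) := by
          rw [LinearMap.sum_apply]; exact Finset.sum_congr rfl fun i _ => (hAi i).symm
      _ = 0 := by rw [h0, LinearMap.zero_apply]
  let F := Finset.univ.filter (fun q : Q => σ q = q)
  have hTF : T = ∑ q ∈ F, f q := sum_eq_sum_fixed σ hσ f fun q _ => hnorm q
  have hcard : (F.card : K) ≠ 0 := by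
    intro h0
    have h1 := sum_eq_sum_fixed σ hσ (fun _ : Q => (1 : K)) (fun q _ => by simp)
    rw [Finset.sum_const, Finset.sum_const, nsmul_one, nsmul_one, h0, Finset.card_univ,
      ← Nat.card_eq_fintype_card] at h1
    exact hidx ((CharP.cast_eq_zero_iff K p _).1 h1)
  -- a coset fixed by the generator
  have hcoset : ∀ q ∈ F, ∃ a b c : K, a ≠ 0 ∧ c ≠ 0 ∧ L q.out cf = a • cf + b • ef ∧
      L q.out ef = c • ef := by
    intro q hq
    have hq' : γ • q = q := (Finset.mem_filter.1 hq).2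
    have hconj : q.out⁻¹ * γ * q.out ∈ P := by
      have h1 : γ • (QuotientGroup.mk q.out : Q) = QuotientGroup.mk q.out := by
        rw [QuotientGroup.out_eq']; exact hq'
      rw [MulAction.Quotient.smul_mk, QuotientGroup.eq] at h1
      have h2' := P.inv_mem h1
      simpa [_root_.mul_inv_rev, mul_assoc] using h2'
    have key : ∀ C : M3, Cᵀ = C → L γ C = C →
        ∃ s t : K, L q.out C = s • cf + t • ef ∧ (L q.out C).det = s ^ 3 := by
      intro C hs hC
      have hinv : L γ (L q.out C) = L q.out C := by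
        have e1 : γ * q.out = q.out * (q.out⁻¹ * γ * q.out) := by group
        rw [← Module.End.mul_apply, ← map_mul, e1, map_mul, Module.End.mul_apply,
          hfix _ hconj C hs hC]
      obtain ⟨s, t, hst⟩ : ∃ s t : K, L q.out C = s • cf + t • ef :=
        eq_of_inv_jb h2 (congrAct_symm _ hs) ((hLγ _).symm.trans hinv)
      exact ⟨s, t, hst, by rw [hst, det_lin h2]⟩
    obtain ⟨a, b, hab, hda⟩ := key cf (by
      ext i j; fin_cases i <;> fin_cases j <;> simp [cf]) ((hLγ _).trans (jb_cf h2))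
    obtain ⟨s, c, hsc, hdc⟩ := key ef (by
      ext i j; fin_cases i <;> fin_cases j <;> simp [ef]) ((hLγ _).trans jb_ef)
    have hu : (↑(q.out : GL (Fin 3) K)⁻¹ : M3).det ≠ 0 :=
      ((Matrix.isUnit_iff_isUnit_det _).1 (Units.isUnit _)).ne_zero
    have hs0 : s = 0 := by
      have h0 : (ef : M3).det = 0 := by rw [det_fin_three]; simp [ef]
      have : s ^ 3 = 0 := by
        rw [← hdc]; show (congrAct _ ef).det = 0
        rw [congrAct_det, h0, mul_zero]
      exact pow_eq_zero_iff (by norm_num) |>.1 this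
    rw [hs0, zero_smul, zero_add] at hsc
    refine ⟨a, b, c, fun h => ?_, fun h => ?_, hab, hsc⟩
    · have h0 : (congrAct (q.out : GL (Fin 3) K) cf).det = 0 := by
        show (L q.out cf).det = 0
        rw [hda, h]; simp
      rw [congrAct_det, cf_det h2, mul_one] at h0
      exact hu (pow_eq_zero_iff (by norm_num) |>.1 h0)
    · rw [h, zero_smul] at hsc
      have h1 := congrArg (L q.out⁻¹) hsc
      rw [map_zero] at h1
      have h2' : (ef : M3) = 0 := by
        rw [← h1, ← Module.End.mul_apply, hLinv', Module.End.one_apply]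
      simpa [ef] using congrFun (congrFun h2' 2) 2
  have hTef : T ef = 0 := by
    rw [hTF, LinearMap.sum_apply]
    refine Finset.sum_eq_zero fun q hq => ?_
    obtain ⟨a, b, c, ha, hc, -, hE⟩ := hcoset q hq
    have h1 := congrArg (L q.out⁻¹) hE
    rw [← Module.End.mul_apply, hLinv', Module.End.one_apply, map_smul] at h1
    have h2' : L q.out⁻¹ ef = c⁻¹ • ef := by
      conv_rhs => rw [h1, inv_smul_smul₀ hc]
    show L q.out (wOp (L q.out⁻¹ ef)) = 0
    rw [h2', map_smul, wOp_apply, trace_df_ef, zero_smul, smul_zero, map_zero]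
  obtain ⟨β, hTcf⟩ : ∃ β : K, T cf = (3 * (F.card : K)) • cf + β • ef := by
    have hterm : ∀ q ∈ F, ∃ b : K, f q cf = (3 : K) • cf + b • ef := by
      intro q hq
      obtain ⟨a, b, c, ha, hc, hC, hE⟩ := hcoset q hq
      have h1 : L q.out (a⁻¹ • (cf - (b * c⁻¹) • ef)) = cf := by
        rw [map_smul, map_sub, map_smul, hC, hE, smul_smul, mul_assoc, inv_mul_cancel₀ hc, mul_one,
          add_sub_cancel_right, inv_smul_smul₀ ha]
      have h2' : L q.out⁻¹ cf = a⁻¹ • (cf - (b * c⁻¹) • ef) := by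
        conv_lhs => rw [← h1, ← Module.End.mul_apply, hLinv', Module.End.one_apply]
      refine ⟨3 * a⁻¹ * b, ?_⟩
      show L q.out (wOp (L q.out⁻¹ cf)) = _
      rw [h2', map_smul, map_sub, map_smul, wOp_apply, wOp_apply, trace_df_cf h2,
        Matrix.mul_smul, Matrix.trace_smul, trace_df_ef, smul_zero, zero_smul, sub_zero, map_smul, hC, smul_add, smul_add, smul_smul,
        smul_smul, smul_smul, smul_smul]
      rw [show a⁻¹ * 3 * a = (3 : K) by field_simp, show a⁻¹ * 3 * b = 3 * a⁻¹ * b by ring]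
    choose! b hb using hterm
    refine ⟨∑ q ∈ F, b q, ?_⟩
    rw [hTF, LinearMap.sum_apply, Finset.sum_congr rfl hb, Finset.sum_add_distrib, ← Finset.sum_smul,
      Finset.sum_const, nsmul_eq_mul, mul_comm (F.card : K), ← Finset.sum_smul]
  set C : M3 := (3 * (F.card : K)) • cf + β • ef with hCdef
  have hCs : Cᵀ = C := by
    rw [hCdef]; ext i j; fin_cases i <;> fin_cases j <;> simp [cf, ef]
  have hCd : C.det ≠ 0 := by
    rw [hCdef, det_lin h2]
    exact pow_ne_zero 3 (mul_ne_zero h3 hcard)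
  have hTC : T C = (3 * (F.card : K)) • C := by
    rw [hCdef, map_add, map_smul, map_smul, hTef, hTcf, smul_zero, add_zero]
  have hTimage : ∀ X : M3, ∃ s t : K, T X = s • cf + t • ef := by
    intro X
    have hterm : ∀ q ∈ F, ∃ s t : K, f q X = s • cf + t • ef := by
      intro q hq
      obtain ⟨a, b, c, -, -, hC, -⟩ := hcoset q hq
      refine ⟨(df * L q.out⁻¹ X).trace * a, (df * L q.out⁻¹ X).trace * b, ?_⟩
      show L q.out (wOp (L q.out⁻¹ X)) = _
      rw [wOp_apply, map_smul, hC, smul_add, smul_smul, smul_smul]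
    choose! s t hst using hterm
    refine ⟨∑ q ∈ F, s q, ∑ q ∈ F, t q, ?_⟩
    rw [hTF, LinearMap.sum_apply, Finset.sum_congr rfl hst, Finset.sum_add_distrib,
      ← Finset.sum_smul, ← Finset.sum_smul]
  refine ⟨C, hCs, hCd, fun h hh => ?_⟩
  let x : ↥H := ⟨h, hh⟩⁻¹
  have hne : (3 * (F.card : K)) ≠ 0 := mul_ne_zero h3 hcard
  have h1 : T (L x C) = (3 * (F.card : K)) • L x C := by
    rw [← Module.End.mul_apply, ← hT, Module.End.mul_apply, hTC, map_smul]
  obtain ⟨s, t, hst⟩ := hTimage (L x C)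
  have h2' : L x C = (3 * (F.card : K))⁻¹ • (s • cf + t • ef) := by
    rw [← hst, h1, inv_smul_smul₀ hne]
  have h4 : T (L x C) = ((3 * (F.card : K))⁻¹ * s) • C := by
    rw [h2', map_smul, map_add, map_smul, map_smul, hTef, hTcf, smul_zero, add_zero, smul_smul]
  refine ⟨(3 * (F.card : K))⁻¹ * ((3 * (F.card : K))⁻¹ * s), ?_⟩
  have h5 : (h : M3)ᵀ * C * (h : M3) = L x C := by
    show _ = congrAct h⁻¹ C
    rw [congrAct_apply, inv_inv]
  rw [h5, ← smul_smul, ← h4, h1, inv_smul_smul₀ hne]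

end CfsgLib.SL3Regular94
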