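import Cfsg.Agent.SL3Regular94.Form

/-!
Coordinate-free form of the transfer theorem, and its use against groups whose centre of a
subgroup is generated by commutators acting as non-trivial scalars.
-/

set_option autoImplicit false

namespace CfsgLib.SL3Regular94

open Matrix

variable {K : Type*} [Field K]

local notation "M3" => Matrix (Fin 3) (Fin 3) K

/-- A regular unipotent element is similar to the Jordan block. -/
theorem exists_conj_jb {u : GL (Fin 3) K} (h3 : ((u : M3) - 1) ^ 3 = 0)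
    (h2 : ((u : M3) - 1) ^ 2 ≠ 0) :
    ∃ b : GL (Fin 3) K, (u : M3) * (b : M3) = (b : M3) * jb := by
  classical
  set N : M3 := (u : M3) - 1 with hN
  obtain ⟨v, hv⟩ : ∃ v : Fin 3 → K, N ^ 2 *ᵥ v ≠ 0 := by
    by_contra! h
    exact h2 (Matrix.ext_of_mulVec_single fun i => by rw [h]; rw [Matrix.zero_mulVec])
  let B : M3 := Matrix.of fun i j => (![N ^ 2 *ᵥ v, N *ᵥ v, v] j) i
  have hBc : ∀ x : Fin 3 → K, B *ᵥ x = x 0 • (N ^ 2 *ᵥ v) + x 1 • (N *ᵥ v) + x 2 • v := by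
    intro x; ext i
    simp [B, Matrix.mulVec, dotProduct, Fin.sum_univ_three]
    ring
  have hu : IsUnit B := by
    refine Matrix.mulVec_injective_iff_isUnit.1 fun x y hxy => ?_
    have hz : B *ᵥ (x - y) = 0 := by rw [Matrix.mulVec_sub, sub_eq_zero]; exact hxy
    rw [hBc] at hz
    have e1 := congrArg (fun w => N *ᵥ w) hz
    simp only [Matrix.mulVec_add, Matrix.mulVec_smul, Matrix.mulVec_mulVec, Matrix.mulVec_zero,
      ← pow_succ', h3, Matrix.zero_mulVec, smul_zero, zero_add, ← pow_two] at e1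
    have e2 := congrArg (fun w => N *ᵥ w) e1
    simp only [Matrix.mulVec_add, Matrix.mulVec_smul, Matrix.mulVec_mulVec, Matrix.mulVec_zero,
      ← pow_succ', h3, Matrix.zero_mulVec, smul_zero, zero_add, ← pow_two] at e2
    have z2 : (x - y) 2 = 0 := (smul_eq_zero.1 e2).resolve_right hv
    rw [z2, zero_smul, add_zero] at e1
    have z1 : (x - y) 1 = 0 := (smul_eq_zero.1 e1).resolve_right hv
    rw [z2, z1, zero_smul, zero_smul, add_zero, add_zero] at hz
    have z0 : (x - y) 0 = 0 := (smul_eq_zero.1 hz).resolve_right hv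
    apply sub_eq_zero.1
    funext i
    fin_cases i
    · exact z0
    · exact z1
    · exact z2
  obtain ⟨b, hb⟩ := hu
  refine ⟨b, ?_⟩
  rw [hb]
  have hu' : (u : M3) = N + 1 := by rw [hN, sub_add_cancel]
  refine Matrix.ext_of_mulVec_single fun i => ?_
  rw [← Matrix.mulVec_mulVec, ← Matrix.mulVec_mulVec, hBc, hBc, hu', Matrix.add_mulVec,
    Matrix.one_mulVec]
  simp only [Matrix.mulVec_add, Matrix.mulVec_smul, Matrix.mulVec_mulVec, ← pow_succ', h3,
    Matrix.zero_mulVec, smul_zero, zero_add, ← pow_two]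
  fin_cases i <;> simp [jb] <;> abel

variable {p : ℕ} [hp : Fact p.Prime] [CharP K p]

/-- If the Sylow `p`-subgroup of a finite group of three by three matrices over a field of
characteristic `p ≥ 11` has order `p` and is generated by a regular unipotent element, then the
group preserves a non-degenerate symmetric form up to scalars. -/
theorem exists_semiinvariant_form (hp11 : 11 ≤ p) (H : Subgroup (GL (Fin 3) K)) [Finite H]
    {g : GL (Fin 3) K} (hgH : g ∈ H) (hord : orderOf g = p) (hsyl : ¬ p ^ 2 ∣ Nat.card H)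
    (hreg : ((g : M3) - 1) ^ 2 ≠ 0) :
    ∃ C : M3, Cᵀ = C ∧ C.det ≠ 0 ∧ ∀ h ∈ H, ∃ c : K, (h : M3)ᵀ * C * (h : M3) = c • C := by
  classical
  let N : M3 := (g : M3) - 1
  have hgp : (g : M3) ^ p = 1 := by
    rw [← Units.val_pow_eq_pow_val, ← hord, pow_orderOf_eq_one, Units.val_one]
  have hNp : N ^ p = 0 := by
    rw [sub_pow_char_of_commute p (Commute.one_right _), one_pow, hgp, sub_self]
  have hN3 : N ^ 3 = 0 := by
    have h := Matrix.isNilpotent_charpoly_sub_pow_of_isNilpotent (M := N) ⟨p, hNp⟩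
    rw [isNilpotent_iff_eq_zero, sub_eq_zero] at h
    have h' := Matrix.aeval_self_charpoly N
    rw [h, map_pow, Polynomial.aeval_X] at h'
    simpa using h'
  -- the inverse is regular unipotent as well
  have hc : Commute (↑g⁻¹ : M3) N :=
    Commute.sub_right (by rw [Commute, SemiconjBy, Units.mul_inv, Units.inv_mul]) (Commute.one_right _)
  have hinv : (↑g⁻¹ : M3) - 1 = -((↑g⁻¹ : M3) * N) := by
    show _ = -((↑g⁻¹ : M3) * ((g : M3) - 1))
    rw [mul_sub, Units.inv_mul, mul_one, neg_sub]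
  have hi3 : ((↑g⁻¹ : M3) - 1) ^ 3 = 0 := by
    rw [hinv, neg_pow, hc.mul_pow, hN3, mul_zero, mul_zero]
  have hi2 : ((↑g⁻¹ : M3) - 1) ^ 2 ≠ 0 := by
    intro h0
    apply hreg
    rw [hinv, neg_sq, hc.mul_pow] at h0
    exact (IsUnit.mul_right_eq_zero ((Units.isUnit g⁻¹).pow 2)).1 h0
  obtain ⟨b, hb⟩ := exists_conj_jb hi3 hi2
  let e : GL (Fin 3) K ≃* GL (Fin 3) K := MulAut.conj b⁻¹
  let H' : Subgroup (GL (Fin 3) K) := H.map e.toMonoidHom
  have hcard : Nat.card H' = Nat.card H :=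
    (Nat.card_congr (H.equivMapOfInjective _ e.injective).toEquiv).symm
  haveI : Finite H' := Finite.of_equiv _ (H.equivMapOfInjective _ e.injective).toEquiv
  have hg' : (↑(e g)⁻¹ : M3) = jb := by
    rw [← map_inv]
    show (↑(b⁻¹ * g⁻¹ * (b⁻¹)⁻¹) : M3) = jb
    rw [inv_inv, Units.val_mul, Units.val_mul, mul_assoc, hb, ← mul_assoc, Units.inv_mul, one_mul]
  obtain ⟨C, hCs, hCd, hC⟩ := exists_form_of_jordan hp11 H' (g := e g)
    (Subgroup.mem_map.2 ⟨g, hgH, rfl⟩) hg' (by rw [e.orderOf_eq, hord]) (by rw [hcard]; exact hsyl)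
  refine ⟨(↑b⁻¹ : M3)ᵀ * C * (↑b⁻¹ : M3), ?_, ?_, fun h hh => ?_⟩
  · rw [transpose_mul, transpose_mul, transpose_transpose, hCs, mul_assoc]
  · have hu : (↑b⁻¹ : M3).det ≠ 0 := ((Matrix.isUnit_iff_isUnit_det _).1 (Units.isUnit _)).ne_zero
    rw [det_mul, det_mul, det_transpose]
    exact mul_ne_zero (mul_ne_zero hu hCd) hu
  · obtain ⟨c, hc'⟩ := hC (e h) (Subgroup.mem_map.2 ⟨h, hh, rfl⟩)
    refine ⟨c, ?_⟩
    have he : ((e h : GL (Fin 3) K) : M3) = (↑b⁻¹ : M3) * (h : M3) * (b : M3) := by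
      show ((b⁻¹ * h * (b⁻¹)⁻¹ : GL (Fin 3) K) : M3) = _
      rw [inv_inv, Units.val_mul, Units.val_mul]
    rw [he] at hc'
    have h1 := congrArg (fun X => (↑b⁻¹ : M3)ᵀ * X * (↑b⁻¹ : M3)) hc'
    simp only [Matrix.mul_smul, Matrix.smul_mul] at h1
    rw [← h1]
    have hbb : (↑b⁻¹ : M3)ᵀ * (b : M3)ᵀ = 1 := by
      rw [← transpose_mul, Units.mul_inv, transpose_one]
    calc (h : M3)ᵀ * ((↑b⁻¹ : M3)ᵀ * C * (↑b⁻¹ : M3)) * (h : M3)
        = 1 * ((h : M3)ᵀ * ((↑b⁻¹ : M3)ᵀ * C * (↑b⁻¹ : M3)) * (h : M3)) * 1 := by rw [one_mul, mul_one]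
      _ = ((↑b⁻¹ : M3)ᵀ * (b : M3)ᵀ) * ((h : M3)ᵀ * ((↑b⁻¹ : M3)ᵀ * C * (↑b⁻¹ : M3)) * (h : M3)) *
            ((b : M3) * (↑b⁻¹ : M3)) := by rw [hbb, Units.mul_inv]
      _ = _ := by simp only [transpose_mul, mul_assoc]

/-- Such a group contains no commutator that is a scalar `ω` with `ω ^ 2 ≠ 1`; in particular it
contains no extraspecial group of order `27`. -/
theorem not_scalar_commutator (hp11 : 11 ≤ p) (H : Subgroup (GL (Fin 3) K)) [Finite H]
    {g : GL (Fin 3) K} (hgH : g ∈ H) (hord : orderOf g = p) (hsyl : ¬ p ^ 2 ∣ Nat.card H)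
    (hreg : ((g : M3) - 1) ^ 2 ≠ 0) {x y : GL (Fin 3) K} (hx : x ∈ H) (hy : y ∈ H) {ω : K}
    (hω : (x : M3) * (y : M3) = ω • ((y : M3) * (x : M3))) : ω ^ 2 = 1 := by
  obtain ⟨C, -, hCd, hC⟩ := exists_semiinvariant_form hp11 H hgH hord hsyl hreg
  obtain ⟨a, ha⟩ := hC x hx
  obtain ⟨b, hb⟩ := hC y hy
  have hC0 : C ≠ 0 := fun h => hCd (by rw [h]; exact Matrix.det_zero)
  have h1 : ((x : M3) * (y : M3))ᵀ * C * ((x : M3) * (y : M3)) = (a * b) • C := by
    calc ((x : M3) * (y : M3))ᵀ * C * ((x : M3) * (y : M3))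
        = (y : M3)ᵀ * ((x : M3)ᵀ * C * (x : M3)) * (y : M3) := by simp only [transpose_mul, mul_assoc]
      _ = _ := by rw [ha, Matrix.mul_smul, Matrix.smul_mul, hb, smul_smul]
  have h2 : ((y : M3) * (x : M3))ᵀ * C * ((y : M3) * (x : M3)) = (a * b) • C := by
    calc ((y : M3) * (x : M3))ᵀ * C * ((y : M3) * (x : M3))
        = (x : M3)ᵀ * ((y : M3)ᵀ * C * (y : M3)) * (x : M3) := by simp only [transpose_mul, mul_assoc]
      _ = _ := by rw [hb, Matrix.mul_smul, Matrix.smul_mul, ha, smul_smul, mul_comm]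
  rw [hω, transpose_smul, Matrix.smul_mul, Matrix.smul_mul, Matrix.mul_smul, h2, smul_smul, smul_smul] at h1
  have hxd : (x : M3).det ≠ 0 := ((Matrix.isUnit_iff_isUnit_det _).1 (Units.isUnit _)).ne_zero
  have hyd : (y : M3).det ≠ 0 := ((Matrix.isUnit_iff_isUnit_det _).1 (Units.isUnit _)).ne_zero
  have hnz : ∀ (z : GL (Fin 3) K) (c : K), (z : M3)ᵀ * C * (z : M3) = c • C → c ≠ 0 := by
    intro z c hz h0
    have hd := congrArg Matrix.det hz
    have hzd : (z : M3).det ≠ 0 := ((Matrix.isUnit_iff_isUnit_det _).1 (Units.isUnit _)).ne_zero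
    rw [h0, zero_smul, det_mul, det_mul, det_transpose, Matrix.det_zero] at hd
    exact mul_ne_zero (mul_ne_zero hzd hCd) hzd hd
  have hab : a * b ≠ 0 := mul_ne_zero (hnz x a ha) (hnz y b hb)
  have h3 : ω * ω * (a * b) = a * b := smul_left_injective K hC0 (by simpa [mul_assoc] using h1)
  have h4 : ω * ω = 1 := (mul_eq_right₀ hab).1 h3
  rw [pow_two]; exact h4

end CfsgLib.SL3Regular94
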